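import Groth.Agent.CohDim.NegPow
import Groth.Agent.CohVanish.QuasiAffine
import Groth.Agent.HilbPoly.Tensor

/-! # A scheme with ample `L` whose negative powers are acyclic is affine -/

set_option autoImplicit false
set_option synthInstance.maxHeartbeats 400000
set_option maxHeartbeats 1600000
universe u
open CategoryTheory CategoryTheory.Limits AlgebraicGeometry Opposite TopologicalSpace

namespace Groth.Agent.CohDim

open InvBasic ProjUniv InvPow

attribute [local instance] Abelian.hasFiniteBiproducts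

variable {X : Scheme.{u}} {L M : X.Modules}

/-- A quasi-coherent module with finite sections on the cover is a quotient of a finite sum of negative powers. -/
theorem exists_epi_negPow_of_cover [CompactSpace X] [QuasiSeparatedSpace X] (hL : PicF.IsInvertible L)
    (hLM : ClSub.IsInverseOf L M) {ι : Type u} [Fintype ι] {D : ι → X.Opens} {N : ι → ℕ} (hN : ∀ x, 0 < N x)
    (t : ∀ x, Γ(CohB1.tensorPow L (N x), ⊤)) (hD : ∀ x, genOpen (isInvertible_tensorPow hL (N x)) (t x) = D x)
    (hDaff : ∀ x, IsAffineOpen (D x)) (hcov : ⨆ x, D x = ⊤) {ℓ : ∀ x, Γ(L, D x)} (hℓ : ∀ x, IsBasis L (ℓ x))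
    (F : X.Modules) [F.IsQuasicoherent] (hFfin : ∀ x, Module.Finite Γ(X, D x) Γ(F, D x))
    (m₀ : ℕ) : ∃ (n c : ℕ) (π : (⨁ fun _ : Fin c => CohB1.tensorPow M n) ⟶ F), m₀ ≤ n ∧ Epi π := by
  choose G hG using fun x => (hFfin x).fg_top
  choose E hE using fun x v => exists_extend_twist F hL (hN x) (t x) (D x) (hD x) (hℓ x) v
  let n := max m₀ (Finset.univ.sup fun x => (G x).sup (E x))
  have hP := isInvertible_tensorPow hL n
  obtain ⟨i⟩ := NegVanish.nonempty_iso_of_inverse hP
    (NegVanish.isInvertible_of_inverse hP (NegVanish.isInverseOf_dual hP))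
    (NegVanish.isInvertible_of_inverse hP (NegVanish.isInverseOf_pow hL hLM n))
    (NegVanish.isInverseOf_pow hL hLM n) (NegVanish.isInverseOf_dual hP)
  let κ := Σ x : ι, {v // v ∈ G x}
  have key : ∀ j : κ, ∃ (φ : CohB1.tensorPow M n ⟶ F) (q : Γ(CohB1.tensorPow M n, D j.1)) (a : Γ(X, D j.1)),
      IsUnit a ∧ φ.app _ q = a • j.2.1 := by
    rintro ⟨x, ⟨v, hv⟩⟩
    have hn : E x v ≤ n := le_trans (le_trans (Finset.le_sup (f := E x) hv)
      (Finset.le_sup (f := fun x => (G x).sup (E x)) (Finset.mem_univ x))) (le_max_right _ _)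
    obtain ⟨w, a, ha, hw⟩ := hE x v n hn
    obtain ⟨φ, θ, hφ⟩ := exists_hom_dual hP w (isBasis_pw (hℓ x) n) (a • v) hw
    refine ⟨i.hom ≫ φ, i.inv.app _ θ, a, ha, ?_⟩
    change φ.app _ ((i.inv ≫ i.hom).app _ θ) = _
    rw [i.inv_hom_id]
    exact hφ
  choose φ q a ha hφ using key
  let en := Finite.equivFin κ
  let B : Fin (Nat.card κ) → X.Modules := fun _ => CohB1.tensorPow M n
  let π : (⨁ B) ⟶ F := biproduct.desc fun j => φ (en.symm j)
  refine ⟨n, Nat.card κ, π, le_max_left _ _, ⟨fun {T} f g hfg => ?_⟩⟩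
  have hc : ∀ (x : ι), ∀ v ∈ G x, f.app (D x) v = g.app (D x) v := by
    intro x v hv
    let j : κ := ⟨x, ⟨v, hv⟩⟩
    have e := congrArg (fun ψ => biproduct.ι B (en j) ≫ ψ) hfg
    dsimp only [π] at e
    rw [biproduct.ι_desc_assoc, biproduct.ι_desc_assoc, en.symm_apply_apply] at e
    have e' := congrArg (fun ψ => ψ.app (D x) (q j)) e
    change f.app _ ((φ j).app _ (q j)) = g.app _ ((φ j).app _ (q j)) at e'
    rw [hφ, Scheme.Modules.Hom.app_smul, Scheme.Modules.Hom.app_smul] at e'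
    exact (ha j).smul_left_cancel.mp e'
  refine Scheme.Modules.hom_ext _ _ fun U => ?_
  ext s
  refine QCohLib.section_ext _ _ fun y hy => ?_
  obtain ⟨x, hyx⟩ := Opens.mem_iSup.mp (hcov.ge (Opens.mem_top y))
  obtain ⟨b, hbU, hyb⟩ := (hDaff x).exists_basicOpen_le (⟨y, hy⟩ : U) hyx
  have hbD : X.basicOpen b ≤ D x := X.basicOpen_le b
  suffices e : ∀ (d : Γ(F, X.basicOpen b)), f.app _ d = g.app _ d by
    rw [← TopCat.Presheaf.germ_res_apply T.presheaf (homOfLE hbU) y hyb (f.app U s),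
      ← TopCat.Presheaf.germ_res_apply T.presheaf (homOfLE hbU) y hyb (g.app U s)]
    exact congrArg _ ((QCohLib.app_map f hbU s).symm.trans ((e _).trans (QCohLib.app_map g hbU s)))
  intro d
  obtain ⟨k, z, hz⟩ := QCohLib.exists_res_eq_pow_smul (hDaff x) b (X.basicOpen b) hbD rfl d
  have hu : IsUnit (resR hbD b ^ k : Γ(X, X.basicOpen b)) := (X.toRingedSpace.isUnit_res_basicOpen b).pow k
  refine hu.smul_left_cancel.mp ?_
  rw [← Scheme.Modules.Hom.app_smul, ← Scheme.Modules.Hom.app_smul]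
  erw [← hz]
  rw [QCohLib.app_map f hbD z, QCohLib.app_map g hbD z]
  refine congrArg _ ?_
  have hzmem : z ∈ Submodule.span Γ(X, D x) (G x : Set Γ(F, D x)) := by
    rw [hG x]; trivial
  clear hz
  induction hzmem using Submodule.span_induction with
  | mem v hv => exact hc x v hv
  | zero => rw [map_zero, map_zero]
  | add u v _ _ hu hv => rw [map_add, map_add, hu, hv]
  | smul c u _ hu => rw [Scheme.Modules.Hom.app_smul, Scheme.Modules.Hom.app_smul, hu]

/-- A section of an invertible `P` gives a map `dual P → O`, surjective where the section generates and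
whose values have basic open inside the generating locus. -/
theorem exists_eval {P A : X.Modules} (hP : PicF.IsInvertible P) (hA : PicF.IsInvertible A) (h : ClSub.IsInverseOf P A)
    (t : Γ(P, ⊤)) : ∃ ψ : A ⟶ Coh.structureModule X,
      (∀ W : X.Opens, W ≤ genOpen hP t → Function.Surjective (ψ.app W)) ∧
      ∀ σ : Γ(A, ⊤), X.basicOpen (show Γ(X, ⊤) from ψ.app ⊤ σ) ≤ genOpen hP t := by
  obtain ⟨e⟩ := h
  obtain ⟨u₀⟩ := NegVanish.nonempty_tensor_structureModule hA
  obtain ⟨c₀⟩ := ProjTwist.nonempty_tensorMod_comm A (Coh.structureModule X)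
  let g : Coh.structureModule X ⟶ P := ProjTwist.globalHom P t
  let v : A ≅ CohB1.tensorMod (Coh.structureModule X) A := u₀.symm ≪≫ c₀
  let φ : CohB1.tensorMod (Coh.structureModule X) A ⟶ Coh.structureModule X := HilbPoly.tMap g A ≫ e.hom
  refine ⟨v.hom ≫ φ, fun W hW => ?_, fun σ => ?_⟩
  · -- surjectivity where `t` generates
    have hb : IsBasis P (gres P t W) := by
      have := isBasis_res (isBasis_genOpen hP t) hW
      rwa [res_gres] at this
    intro z
    obtain ⟨w, hw⟩ : ∃ w, e.hom.app W w = z := ⟨e.inv.app W z, by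
      change (e.inv ≫ e.hom).app W z = z
      rw [e.inv_hom_id]
      rfl⟩
    choose V hxV θ hθ using fun x : X => exists_isBasis hA x
    have hbas : ∀ x : W, ∃ (U : X.Opens) (hUW : U ≤ W) (_ : x.1 ∈ U) (r : Γ(CohB1.tensorMod (Coh.structureModule X) A, U)),
        (HilbPoly.tMap g A).app U r = res _ hUW w := fun x => by
      let U := W ⊓ V x.1
      obtain ⟨m, hm⟩ := (ProjCoh.tmul_gen_bijective P (L := A) (g := θ x.1) (hθ x.1) (inf_le_right : U ≤ V x.1)).2
        (res _ (inf_le_left : U ≤ W) w)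
      obtain ⟨a, ha⟩ := exists_coef (isBasis_res hb (inf_le_left : U ≤ W)) m
      refine ⟨U, inf_le_left, ⟨x.2, hxV x.1⟩, SecTwist.tmul (Coh.structureModule X) A U (show Γ(Coh.structureModule X, U) from a) (res A inf_le_right (θ x.1)), ?_⟩
      rw [HilbPoly.tMap_tmul]
      refine Eq.trans (congrArg (fun q => SecTwist.tmul P A U q (res A inf_le_right (θ x.1))) ?_) hm
      rw [ha, ProjTwist.globalHom_app, res_gres]
    -- `tMap g A` is injective over `W`, hence glue the local preimages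
    have hinj : ∀ U : X.Opens, U ≤ W → Function.Injective ((HilbPoly.tMap g A).app U) := fun U hU r r' hrr => by
      refine QCohLib.section_ext _ _ fun y hy => ?_
      let U' := U ⊓ V y
      obtain ⟨m, hm⟩ := (ProjCoh.tmul_gen_bijective (Coh.structureModule X) (L := A) (g := θ y) (hθ y) (inf_le_right : U' ≤ V y)).2 (res _ (inf_le_left : U' ≤ U) r)
      obtain ⟨m', hm'⟩ := (ProjCoh.tmul_gen_bijective (Coh.structureModule X) (L := A) (g := θ y) (hθ y) (inf_le_right : U' ≤ V y)).2 (res _ (inf_le_left : U' ≤ U) r')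
      have e1 : (HilbPoly.tMap g A).app U' (res _ (inf_le_left : U' ≤ U) r) = (HilbPoly.tMap g A).app U' (res _ (inf_le_left : U' ≤ U) r') :=
        (QCohLib.app_map _ _ _).trans ((congrArg (res (CohB1.tensorMod P A) (inf_le_left : U' ≤ U)) hrr).trans (QCohLib.app_map _ _ _).symm)
      rw [← hm, ← hm'] at e1
      dsimp only at e1
      rw [HilbPoly.tMap_tmul, HilbPoly.tMap_tmul] at e1
      have e2 := (ProjCoh.tmul_gen_bijective P (L := A) (g := θ y) (hθ y) (inf_le_right : U' ≤ V y)).1 e1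
      rw [ProjTwist.globalHom_app, ProjTwist.globalHom_app] at e2
      have e3 : (show Γ(X, U') from m) = (show Γ(X, U') from m') := by
        refine coef_unique (isBasis_res hb (inf_le_left.trans hU)) ?_
        rw [res_gres]
        exact e2
      have e4 : res _ (inf_le_left : U' ≤ U) r = res _ (inf_le_left : U' ≤ U) r' := by
        rw [← hm, ← hm', show m = m' from e3]
      have := congrArg ((CohB1.tensorMod (Coh.structureModule X) A).presheaf.germ U' y ⟨hy, hxV y⟩) e4
      rwa [res, res, TopCat.Presheaf.germ_res_apply, TopCat.Presheaf.germ_res_apply] at this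
    choose U hUW hxU r hr using hbas
    obtain ⟨s, hs, -⟩ := TopCat.Sheaf.existsUnique_gluing'
      (⟨(CohB1.tensorMod (Coh.structureModule X) A).presheaf, (CohB1.tensorMod (Coh.structureModule X) A).isSheaf⟩ : TopCat.Sheaf Ab X)
      U W (fun x => homOfLE (hUW x)) (fun x hx => Opens.mem_iSup.mpr ⟨⟨x, hx⟩, hxU _⟩) r (fun i j => by
        refine hinj _ (inf_le_left.trans (hUW i)) ?_
        refine (QCohLib.app_map _ _ _).trans (Eq.trans ?_ (QCohLib.app_map _ _ _).symm)
        rw [hr i, hr j]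
        exact (res_res _ _ _ _).trans (res_res _ _ _ _).symm)
    obtain ⟨σ, hσ⟩ : ∃ σ, v.hom.app W σ = s := ⟨v.inv.app W s, by
      change (v.inv ≫ v.hom).app W s = s
      rw [v.inv_hom_id]
      rfl⟩
    refine ⟨σ, ?_⟩
    change e.hom.app W ((HilbPoly.tMap g A).app W (v.hom.app W σ)) = z
    rw [hσ, ← hw]
    congr 1
    refine TopCat.Sheaf.eq_of_locally_eq' (⟨(CohB1.tensorMod P A).presheaf, (CohB1.tensorMod P A).isSheaf⟩ : TopCat.Sheaf Ab X) U W
      (fun x => homOfLE (hUW x)) (fun x hx => Opens.mem_iSup.mpr ⟨⟨x, hx⟩, hxU _⟩) _ _ fun x => ?_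
    exact (QCohLib.app_map _ _ _).symm.trans ((congrArg _ (hs x)).trans (hr x))
  · -- values lie in the generating locus
    intro y hy
    let τ := v.hom.app ⊤ σ
    obtain ⟨V₁, hy₁, b, hb⟩ := exists_isBasis hP y
    obtain ⟨V₂, hy₂, θ, hθ⟩ := exists_isBasis hA y
    let U := V₁ ⊓ V₂
    obtain ⟨m, hm⟩ := (ProjCoh.tmul_gen_bijective (Coh.structureModule X) (L := A) (g := θ) hθ (inf_le_right : U ≤ V₂)).2 (gres _ τ U)
    have hbU := isBasis_res hb (inf_le_left : U ≤ V₁)
    obtain ⟨c, hc⟩ := exists_coef hbU (gres P t U)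
    let q : Γ(X, U) := e.hom.app U (SecTwist.tmul P A U (res P inf_le_left b) (res A inf_le_right θ))
    have hf : gres (Coh.structureModule X) (φ.app ⊤ τ) U = (show Γ(Coh.structureModule X, U) from ((show Γ(X, U) from m) * c * q)) := by
      rw [gres, res, ← QCohLib.app_map, ← res, ← gres, ← hm]
      change e.hom.app U ((HilbPoly.tMap g A).app U _) = _
      rw [HilbPoly.tMap_tmul, ProjTwist.globalHom_app]
      rw [show P.presheaf.map (homOfLE (le_top : U ≤ ⊤)).op t = c • res P inf_le_left b from hc, smul_smul,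
        ProjCoh.tmul_smul_left, Scheme.Modules.Hom.app_smul]
      rfl
    have hyU : y ∈ U := ⟨hy₁, hy₂⟩
    have h1 : IsUnit (X.presheaf.germ ⊤ y trivial (show Γ(X, ⊤) from φ.app ⊤ τ)) := (X.mem_basicOpen (U := (⊤ : X.Opens)) _ y trivial).mp hy
    have h2 : X.presheaf.germ ⊤ y trivial (show Γ(X, ⊤) from φ.app ⊤ τ) = X.presheaf.germ U y hyU ((show Γ(X, U) from m) * c * q) := by
      rw [← X.presheaf.germ_res_apply (homOfLE (le_top : U ≤ ⊤)) y hyU]
      exact congrArg _ hf
    rw [h2, map_mul, map_mul, IsUnit.mul_iff, IsUnit.mul_iff] at h1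
    exact ((genOpen_inf_eq_basicOpen hP hbU hc).ge ((X.mem_basicOpen c y hyU).mpr h1.1.2)).1

/-- Powers of `M` have finite free sections where `M` is trivial. -/
theorem projOn_pow {ι : Type*} {D : ι → X.Opens} (hM : ∀ x : ι, ∃ θ : Γ(M, D x), IsBasis M θ) (n : ℕ) :
    CohVanish.ProjOn D (CohB1.tensorPow M n) := fun x => by
  obtain ⟨θ, hθ⟩ := hM x
  have hb := isBasis_pw hθ n
  let e : Γ(X, D x) ≃ₗ[Γ(X, D x)] Γ(CohB1.tensorPow M n, D x) :=
    LinearEquiv.ofBijective (LinearMap.toSpanSingleton Γ(X, D x) Γ(CohB1.tensorPow M n, D x) (pw M θ n))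
      ⟨fun a b h => coef_unique hb h, fun z => (exists_coef hb z).imp fun a ha => ha.symm⟩
  exact ⟨Module.Finite.equiv e, Module.Projective.of_equiv e⟩

theorem projOn_biproduct {ι : Type*} {D : ι → X.Opens} : ∀ {c : ℕ} (B : Fin c → X.Modules),
    (∀ j, (B j).IsQuasicoherent) → (∀ j, CohVanish.ProjOn D (B j)) →
      (⨁ B).IsQuasicoherent ∧ CohVanish.ProjOn D (⨁ B) := by
  intro c
  induction c with
  | zero =>
    intro B _ _
    have h : IsZero (⨁ B) := by
      rw [IsZero.iff_id_eq_zero]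
      exact biproduct.hom_ext _ _ fun j => j.elim0
    exact ⟨CohVanish.isQuasicoherent_of_isZero h, CohVanish.projOn_of_isZero _ h⟩
  | succ c ih =>
    intro B hq hp
    obtain ⟨hq', hp'⟩ := ih (fun j => B j.succ) (fun j => hq _) (fun j => hp _)
    have := hq 0
    let e : (⨁ B) ≅ B 0 ⊞ ⨁ fun j : Fin c => B j.succ :=
      { hom := biprod.lift (biproduct.π B 0) (biproduct.lift fun j => biproduct.π B j.succ)
        inv := biprod.desc (biproduct.ι B 0) (biproduct.desc fun j => biproduct.ι B j.succ)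
        hom_inv_id := by
          rw [biprod.lift_desc, biproduct.lift_desc, ← biproduct.total, Fin.sum_univ_succ]
        inv_hom_id := by
          refine biprod.hom_ext' _ _ (biprod.hom_ext _ _ ?_ (biproduct.hom_ext _ _ fun j => ?_))
            (biproduct.hom_ext' _ _ fun j => biprod.hom_ext _ _ ?_ (biproduct.hom_ext _ _ fun k => ?_))
          · simp
          · simp [biproduct.ι_π, (Fin.succ_ne_zero j).symm]
          · simp [biproduct.ι_π, Fin.succ_ne_zero j]
          · by_cases h : j = k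
            · subst h; simp
            · simp [biproduct.ι_π, h] }
    have := CohVanish.isQuasicoherent_biprod (B 0) (⨁ fun j : Fin c => B j.succ)
    refine ⟨QCohLib.isQuasicoherent_of_iso e.symm, fun x => ?_⟩
    obtain ⟨_, _⟩ := CohVanish.projOn_biprod D (hp 0) hp' x
    let h : Γ(B 0 ⊞ ⨁ fun j : Fin c => B j.succ, D x) ≃ₗ[Γ(X, D x)] Γ(⨁ B, D x) :=
      { toFun := e.inv.app (D x)
        invFun := e.hom.app (D x)
        left_inv := fun z => by change (e.inv ≫ e.hom).app (D x) z = z; rw [e.inv_hom_id]; rfl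
        right_inv := fun z => by change (e.hom ≫ e.inv).app (D x) z = z; rw [e.hom_inv_id]; rfl
        map_add' := fun a b => map_add _ a b
        map_smul' := fun r a => Scheme.Modules.Hom.app_smul _ r a }
    exact ⟨Module.Finite.equiv h, Module.Projective.of_equiv h⟩

theorem isAffine_of_negPow (hA : CohB1.IsAmple L) (hLM : ClSub.IsInverseOf L M) (n₀ : ℕ)
    (hneg : ∀ n : ℕ, n₀ ≤ n → ∀ p : ℕ, 0 < p → Subsingleton (Coh.HH X (CohB1.tensorPow M n) p)) : IsAffine X := by
  have := hA.2.1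
  have := isSeparated_of_isAmple hA
  have hL := hA.1
  have hMi : PicF.IsInvertible M := NegVanish.isInvertible_of_inverse hL hLM
  choose D N hN t hxD hD hDaff ℓ hℓ using fun x : X => show ∃ (D : X.Opens) (N : ℕ) (_ : 0 < N)
      (t : Γ(CohB1.tensorPow L N, ⊤)) (_ : x ∈ D) (_ : genOpen (isInvertible_tensorPow hA.1 N) t = D)
      (_ : IsAffineOpen D) (ℓ : Γ(L, D)), IsBasis L ℓ by
    obtain ⟨U, hxU, ℓ, hℓ⟩ := exists_isBasis hA.1 x
    obtain ⟨N, hN, t, hxt, hle, haff⟩ := exists_locus_le hA hxU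
    exact ⟨_, N, hN, t, hxt, rfl, haff, _, isBasis_res hℓ hle⟩
  obtain ⟨S, hS⟩ := isCompact_univ.elim_finite_subcover (fun x => (D x : Set X)) (fun x => (D x).2)
    (fun x _ => Set.mem_iUnion.mpr ⟨x, hxD x⟩)
  let ι := {x // x ∈ S}
  have hcov : ⨆ x : ι, D x.1 = ⊤ := top_le_iff.mp fun y _ => by
    obtain ⟨x, hxS, hyx⟩ := Set.mem_iUnion₂.mp (hS (Set.mem_univ y))
    exact Opens.mem_iSup.mpr ⟨⟨x, hxS⟩, hyx⟩
  have hbM : ∀ x : ι, ∃ θ : Γ(M, D x.1), IsBasis M θ := fun x => by
    obtain ⟨i⟩ := NegVanish.nonempty_iso_of_inverse hL (NegVanish.isInvertible_of_inverse hL (NegVanish.isInverseOf_dual hL))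
      hMi hLM (NegVanish.isInverseOf_dual hL)
    obtain ⟨θ, hθ, -⟩ := exists_isBasis_dual (hℓ x.1)
    exact ⟨_, isBasis_of_iso i.symm hθ⟩
  haveI : HasExt.{u} X.Modules := ModGroth.sheaf_hasExt _
  have hQ : ∀ n : ℕ, (CohB1.tensorPow M n).IsQuasicoherent := fun n =>
    (DCohPerf.isCoh_finLocFree (isFinLocFree_of_isInvertible (isInvertible_tensorPow hMi n))).1
  obtain ⟨d, hd⟩ := CohVanish.exists_cohomological_bound (Y := X)
  have key : ∀ (k : ℕ) (E : X.Modules) [E.IsQuasicoherent],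
      CohVanish.ProjOn (fun x : ι => D x.1) E → ∀ p, 0 < p → d ≤ p + k → Subsingleton (Coh.HH X E p) := by
    intro k
    induction k with
    | zero => exact fun E _ _ p _ hpd => hd E p hpd
    | succ k ih =>
      intro E _ hE p hp hpd
      obtain ⟨n, c, π, hn, hπ⟩ := exists_epi_negPow_of_cover hL hLM (fun x : ι => hN x.1) (fun x => t x.1)
        (fun x => hD x.1) (fun x => hDaff x.1) hcov (fun x => hℓ x.1) E (fun x => (hE x).1) n₀
      obtain ⟨hsq, hsp⟩ := projOn_biproduct (fun _ : Fin c => CohB1.tensorPow M n) (fun _ => hQ n) (fun _ => projOn_pow hbM n)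
      have := hsq
      have := QCohLib.isQuasicoherent_kernel π
      exact CohVanish.subsingleton_HH_of_shortExact₃ (CohVanish.shortExact_of_epi π) p
        (CohDual.subsingleton_HH_biproduct _ p fun _ => hneg n hn p hp)
        (ih (kernel π) (CohVanish.projOn_kernel _ (fun x : ι => hDaff x.1) π hsp hE) (p + 1)
          (Nat.succ_pos p) (by omega))
  -- the map from negative powers given by the sections
  let n : ι → ℕ := fun x => N x.1 * (n₀ + 1)
  have hev : ∀ x : ι, ∃ ψ : CohB1.tensorPow M (n x) ⟶ Coh.structureModule X,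
      Function.Surjective (ψ.app (D x.1)) ∧
      ∀ σ : Γ(CohB1.tensorPow M (n x), ⊤), X.basicOpen (show Γ(X, ⊤) from ψ.app ⊤ σ) ≤ D x.1 := fun x => by
    have hg := (genOpen_spow hL (t x.1) (Nat.succ_pos n₀)).trans (hD x.1)
    obtain ⟨ψ, h1, h2⟩ := exists_eval (isInvertible_tensorPow hL (n x)) (isInvertible_tensorPow hMi (n x))
      (NegVanish.isInverseOf_pow hL hLM (n x)) (spow hL (t x.1) (n₀ + 1))
    exact ⟨ψ, h1 _ hg.ge, fun σ => (h2 σ).trans hg.le⟩
  choose ψ hψs hψb using hev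
  let en := Finite.equivFin ι
  let B : Fin (Nat.card ι) → X.Modules := fun j => CohB1.tensorPow M (n (en.symm j))
  let π : (⨁ B) ⟶ Coh.structureModule X := biproduct.desc fun j => ψ (en.symm j)
  obtain ⟨hBq, hBp⟩ := projOn_biproduct B (fun j => hQ _) (fun j => projOn_pow hbM _)
  have := hBq
  have := CohVanish.isQuasicoherent_oMod X
  have hπ : Epi π := CohVanish.epi_of_surjective_on_cover π (fun x : ι => D x.1) (fun x => hDaff x.1) hcov fun x z => by
    obtain ⟨σ, hσ⟩ : ∃ σ, (ψ (en.symm (en x))).app (D x.1) σ = z := by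
      rw [en.symm_apply_apply]
      exact hψs x z
    refine ⟨(biproduct.ι B (en x)).app (D x.1) σ, ?_⟩
    change (biproduct.ι B (en x) ≫ π).app (D x.1) σ = z
    rw [biproduct.ι_desc]
    exact hσ
  have := QCohLib.isQuasicoherent_kernel π
  obtain ⟨s, hs⟩ := CohVanish.app_top_surjective_of_shortExact (CohVanish.shortExact_of_epi π)
    (key d (kernel π) (CohVanish.projOn_kernel _ (fun x : ι => hDaff x.1) π hBp (CohVanish.projOn_oMod _)) 1 Nat.one_pos
      (by omega)) (1 : Γ(X, ⊤))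
  let f : ι → Γ(X, ⊤) := fun x => (ψ (en.symm (en x))).app ⊤ ((biproduct.π B (en x)).app ⊤ s)
  refine isAffine_of_isAffineOpen_basicOpen (Set.range f) ?_ ?_
  · rw [Ideal.eq_top_iff_one]
    let ev : ((⨁ B) ⟶ Coh.structureModule X) →+ Γ(Coh.structureModule X, ⊤) :=
      AddMonoidHom.mk' (fun φ => φ.app ⊤ s) fun _ _ => rfl
    have h1 : ev π = (1 : Γ(X, ⊤)) := hs
    have h2 : π = ∑ j, biproduct.π B j ≫ ψ (en.symm j) := biproduct.desc_eq
    rw [h2, map_sum] at h1
    rw [← h1]
    refine Ideal.sum_mem _ fun j _ => Ideal.subset_span ⟨en.symm j, ?_⟩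
    dsimp only [f]
    rw [en.apply_symm_apply]
    rfl
  · rintro _ ⟨x, rfl⟩
    have hle : X.basicOpen (f x) ≤ D x.1 := by
      have := hψb (en.symm (en x)) ((biproduct.π B (en x)).app ⊤ s)
      rw [show D x.1 = D (en.symm (en x)).1 by rw [en.symm_apply_apply]]
      exact this
    have e : X.basicOpen (X.presheaf.map (homOfLE (le_top : D x.1 ≤ ⊤)).op (f x)) = X.basicOpen (f x) := by
      rw [Scheme.basicOpen_res]
      exact inf_eq_right.mpr hle
    rw [← e]
    exact (hDaff x.1).basicOpen _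

end Groth.Agent.CohDim
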