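import Groth.Agent.CohDim.AmpleCrit
import Groth.Agent.FlatDescent.Strat.Ext
import Groth.Prelude.Def_FlatMod2

/-! # Ampleness from generated twists of finite type ideals -/

set_option autoImplicit false
set_option synthInstance.maxHeartbeats 400000
set_option maxHeartbeats 1600000
universe u
open CategoryTheory CategoryTheory.Limits AlgebraicGeometry Opposite TopologicalSpace

namespace Groth.Agent.CohDim

open InvBasic ProjUniv InvPow

attribute [local instance] Abelian.hasFiniteBiproducts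

variable {X : Scheme.{u}}

/-- A finite type ideal contained in a given one, the unit ideal where that one is. -/
theorem exists_ft_le [CompactSpace X] [QuasiSeparatedSpace X] (K : X.IdealSheafData) {U : X.Opens} (hU : IsAffineOpen U)
    (hK : K.ideal ⟨U, hU⟩ = ⊤) : ∃ E : X.IdealSheafData, BlowUp.IsFiniteTypeIdeal E ∧ E ≤ K ∧ E.ideal ⟨U, hU⟩ = ⊤ := by
  haveI := ConormalSection.isQuasicoherent_idealMod K
  obtain ⟨σ, hσ⟩ := ConormalSection.exists_idealSect_eq K ⟨U, hU⟩ 1 (by rw [hK]; trivial)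
  obtain ⟨M, hM, hsM⟩ := SubSheafExt.exists_gen_of_section_qcqs (F := ClSub.idealMod K) hU σ
  refine ⟨AdmBlowUp.subIdeal K hM, AdmBlowUp.subIdeal_ft K hM, AdmBlowUp.subIdeal_le K hM, ?_⟩
  rw [Ideal.eq_top_iff_one]
  exact ⟨σ, hsM, hσ⟩

theorem exists_locus_of_generated [CompactSpace X] [QuasiSeparatedSpace X] {L : X.Modules} (hL : PicF.IsInvertible L)
    (h : ∀ I : X.IdealSheafData, BlowUp.IsFiniteTypeIdeal I →
      ∃ (n k : ℕ) (p : FlatMod.freeMod X k ⟶ CohB1.tensorMod (ClSub.idealMod I) (CohB1.tensorPow L (n + 1))), Epi p)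
    (x : X) : ∃ n, 0 < n ∧ ∃ s : Γ(CohB1.tensorPow L n, ⊤),
      x ∈ genOpen (isInvertible_tensorPow hL n) s ∧ IsAffineOpen (genOpen (isInvertible_tensorPow hL n) s) := by
  obtain ⟨U₀, hxU₀, ℓ₀, hℓ₀⟩ := exists_isBasis hL x
  obtain ⟨U, hU, hxU, hUle⟩ := exists_isAffineOpen_mem_and_subset hxU₀
  let K := Scheme.IdealSheafData.vanishingIdeal U.compl
  have hK : K.ideal ⟨U, hU⟩ = ⊤ := by
    rw [Scheme.IdealSheafData.vanishingIdeal_ideal]
    have he : hU.fromSpec ⁻¹' ((U.compl : Closeds X) : Set X) = ∅ := Set.eq_empty_iff_forall_notMem.mpr fun y hy =>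
      hy (show hU.fromSpec y ∈ (U : Set X) from hU.range_fromSpec ▸ Set.mem_range_self y)
    exact (congrArg PrimeSpectrum.vanishingIdeal he).trans PrimeSpectrum.vanishingIdeal_empty
  obtain ⟨E, hE, hEK, hEU⟩ := exists_ft_le K hU hK
  haveI := ConormalSection.isQuasicoherent_idealMod E
  obtain ⟨n, k, p, hp⟩ := h E hE
  refine ⟨n + 1, Nat.succ_pos n, ?_⟩
  let P := CohB1.tensorPow L (n + 1)
  have hP : PicF.IsInvertible P := isInvertible_tensorPow hL (n + 1)
  obtain ⟨v⟩ : Nonempty (CohB1.tensorMod (Coh.structureModule X) P ≅ P) := by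
    obtain ⟨u₀⟩ := NegVanish.nonempty_tensor_structureModule hP
    obtain ⟨c₀⟩ := ProjTwist.nonempty_tensorMod_comm (Coh.structureModule X) P
    exact ⟨c₀ ≪≫ u₀⟩
  let Φ : CohB1.tensorMod (ClSub.idealMod E) P ⟶ P := HilbPoly.tMap (ClSub.idealModι E) P ≫ v.hom
  have key : ∀ (σ : Γ(CohB1.tensorMod (ClSub.idealMod E) P, ⊤)) (V : X.Opens) (hV : IsAffineOpen V) (β : Γ(P, V)),
      IsBasis P β → ∃ a : Γ(X, V), a ∈ E.ideal ⟨V, hV⟩ ∧ genOpen hP (Φ.app ⊤ σ) ⊓ V = X.basicOpen a := by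
    intro σ V hV β hβ
    obtain ⟨m, hm⟩ := (ProjCoh.tmul_gen_bijective (ClSub.idealMod E) (L := P) (g := β) hβ (le_refl V)).2 (gres _ σ V)
    simp only [QCohLib.map_self] at hm
    refine ⟨OmegaSh.idealSect E V m, ConormalSection.idealSect_mem E ⟨V, hV⟩ m, genOpen_inf_eq_basicOpen hP
      (isBasis_of_iso v (isBasis_tmul (isBasis_oneSec (X := X) V) hβ)) ?_⟩
    change res P le_top (Φ.app ⊤ σ) = _
    rw [res, ← QCohLib.app_map, ← res]
    change v.hom.app V ((HilbPoly.tMap (ClSub.idealModι E) P).app V (gres _ σ V)) = _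
    rw [← hm, HilbPoly.tMap_tmul, ← Scheme.Modules.Hom.app_smul, ← ProjCoh.tmul_smul_left, smul_oneSec]
    rfl
  have hle : ∀ σ, genOpen hP (Φ.app ⊤ σ) ≤ U := fun σ z hz => by
    by_contra hzU
    obtain ⟨V₀, hzV₀, β₀, hβ₀⟩ := exists_isBasis hP z
    obtain ⟨V, hV, hzV, hVle⟩ := exists_isAffineOpen_mem_and_subset hzV₀
    obtain ⟨a, ha, he⟩ := key σ V hV _ (isBasis_res hβ₀ hVle)
    have hsupp : z ∈ E.support := by
      have hzK : z ∈ K.support := by
        rw [← SetLike.mem_coe, Scheme.IdealSheafData.coe_support_vanishingIdeal]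
        exact hzU
      exact Scheme.IdealSheafData.support_antitone hEK hzK
    rw [Scheme.IdealSheafData.mem_support_iff_of_mem (U := ⟨V, hV⟩) hzV, Scheme.mem_zeroLocus_iff] at hsupp
    exact hsupp a ha (he.le ⟨hz, hzV⟩)
  -- some section generates at `x`
  let b : Γ(P, U) := pw L (res L hUle ℓ₀) (n + 1)
  have hb : IsBasis P b := isBasis_pw (isBasis_res hℓ₀ hUle) (n + 1)
  obtain ⟨one', hone⟩ := ConormalSection.exists_idealSect_eq E ⟨U, hU⟩ 1 (by rw [hEU]; trivial)
  let F : Fin k → X.Modules := fun _ => Coh.structureModule X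
  let p' : (⨁ F) ⟶ CohB1.tensorMod (ClSub.idealMod E) P := (biproduct.isoCoproduct F).hom ≫ p
  haveI : Epi p' := epi_comp _ _
  obtain ⟨W, hWU, ⟨r, hr⟩, hxW⟩ := (QCohLib.epi_iff_locally_surjective p').mp inferInstance U
    (SecTwist.tmul (ClSub.idealMod E) P U one' b) x hxU
  let σ : Fin k → Γ(CohB1.tensorMod (ClSub.idealMod E) P, ⊤) :=
    fun j => (biproduct.ι F j ≫ p').app ⊤ (oneSec X ⊤)
  suffices ∃ j, x ∈ genOpen hP (Φ.app ⊤ (σ j)) by
    obtain ⟨j, hj⟩ := this
    obtain ⟨a, -, he⟩ := key (σ j) U hU b hb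
    refine ⟨Φ.app ⊤ (σ j), hj, ?_⟩
    rw [show genOpen hP (Φ.app ⊤ (σ j)) = X.basicOpen a from (inf_eq_left.mpr (hle _)).symm.trans he]
    exact hU.basicOpen a
  by_contra hne
  have hbW := isBasis_res hb hWU
  -- coefficients with respect to a basis over `W`
  let β : Γ(P, W) := v.hom.app W (SecTwist.tmul (Coh.structureModule X) P W (oneSec X W) (res P hWU b))
  have hβ : IsBasis P β := isBasis_of_iso v (isBasis_tmul (isBasis_oneSec (X := X) W) hbW)
  choose c hc using fun j => exists_coef hβ (gres P (Φ.app ⊤ (σ j)) W)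
  have hcx : ∀ j, X.presheaf.germ W x hxW (c j) ∈ IsLocalRing.maximalIdeal (X.presheaf.stalk x) := fun j => by
    rw [IsLocalRing.mem_maximalIdeal, mem_nonunits_iff]
    intro hu
    exact hne ⟨j, ((genOpen_inf_eq_basicOpen hP hβ (hc j)).ge ((X.mem_basicOpen _ x hxW).mpr hu)).1⟩
  have hval : Φ.app W (p'.app W r) = β := by
    rw [hr]
    change v.hom.app W ((HilbPoly.tMap (ClSub.idealModι E) P).app W
      (res (CohB1.tensorMod (ClSub.idealMod E) P) hWU (SecTwist.tmul (ClSub.idealMod E) P U (show Γ(ClSub.idealMod E, U) from one') b))) = _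
    rw [HilbPoly.res_tmul, HilbPoly.tMap_tmul]
    refine congrArg (fun q => v.hom.app W (SecTwist.tmul (Coh.structureModule X) P W q (res P hWU b))) ?_
    rw [QCohLib.app_map, show (ClSub.idealModι E).app U one' = oneSec X U from hone]
    exact res_oneSec hWU
  let ev : ((⨁ F) ⟶ P) →+ Γ(P, W) := AddMonoidHom.mk' (fun φ => φ.app W r) fun _ _ => rfl
  have hsum : ev (p' ≫ Φ) = ∑ j, (show Γ(X, W) from (biproduct.π F j).app W r) • (c j • β) := by
    have e : p' ≫ Φ = ∑ j, biproduct.π F j ≫ (biproduct.ι F j ≫ p' ≫ Φ) := by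
      conv_lhs => rw [← Category.id_comp (p' ≫ Φ), ← biproduct.total, Preadditive.sum_comp]
      simp only [Category.assoc]
    rw [e, map_sum]
    refine Finset.sum_congr rfl fun j _ => ?_
    change (biproduct.ι F j ≫ p' ≫ Φ).app W ((biproduct.π F j).app W r) = _
    rw [← hc j]
    have e1 : (biproduct.π F j).app W r =
        (show Γ(X, W) from (biproduct.π F j).app W r) • oneSec X W := (smul_oneSec _).symm
    refine (congrArg ((biproduct.ι F j ≫ p' ≫ Φ).app W) e1).trans ?_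
    rw [Scheme.Modules.Hom.app_smul]
    refine congrArg _ ?_
    rw [← res_oneSec (le_top : W ≤ ⊤), QCohLib.app_map]
    rfl
  have h1 : (∑ j, (show Γ(X, W) from (biproduct.π F j).app W r) * c j) = 1 := by
    refine coef_unique hβ ?_
    rw [one_smul, Finset.sum_smul]
    simp only [mul_smul]
    exact hsum.symm.trans hval
  have h2 : (1 : X.presheaf.stalk x) ∈ IsLocalRing.maximalIdeal (X.presheaf.stalk x) := by
    rw [← map_one (X.presheaf.germ W x hxW).hom, ← h1, map_sum]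
    refine Ideal.sum_mem _ fun j _ => ?_
    rw [map_mul]
    exact Ideal.mul_mem_left _ _ (hcx j)
  exact (Ideal.ne_top_iff_one _).mp (IsLocalRing.maximalIdeal.isMaximal _).ne_top h2

end Groth.Agent.CohDim
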