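import Groth.Agent.InvPow.Resolution
import Groth.Agent.InvPow.ExtendModule
import Groth.Agent.InvPow.Ample
import Groth.Agent.NegVanish.DualInverse
import Groth.Agent.CohDual.PartialDual
import Groth.Agent.CohVanish.Sections
import Groth.Agent.CohVanish.MV
import Groth.Agent.QCohLib.Coherent
import Groth.Agent.CohFinite.DevissageGen

/-! # Coherent modules are quotients of sums of negative powers of an ample module; vanishing -/

set_option autoImplicit false
set_option synthInstance.maxHeartbeats 400000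
set_option maxHeartbeats 1600000
universe u
open CategoryTheory CategoryTheory.Limits AlgebraicGeometry Opposite TopologicalSpace

namespace Groth.Agent.CohDim

open InvBasic ProjUniv InvPow

attribute [local instance] Abelian.hasFiniteBiproducts

variable {X : Scheme.{u}} {L M : X.Modules}

/-- A coherent module is a quotient of a finite sum of copies of `M^n`, `n` large, `M` inverse to the ample `L`. -/
theorem exists_epi_negPow (hA : CohB1.IsAmple L) (hM : ClSub.IsInverseOf M L) {F : X.Modules} (hF : Coh.IsCoh F)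
    (m₀ : ℕ) : ∃ (n c : ℕ) (π : (⨁ fun _ : Fin c => CohB1.tensorPow M n) ⟶ F), m₀ ≤ n ∧ Epi π := by
  have := hA.2.1
  have := isSeparated_of_isAmple hA
  have := hF.1
  have hL := hA.1
  have hLM : ClSub.IsInverseOf L M := by
    obtain ⟨e⟩ := hM
    obtain ⟨c⟩ := ProjTwist.nonempty_tensorMod_comm L M
    exact ⟨c ≪≫ e⟩
  choose D N hN t hxD hD hDaff ℓ hℓ using fun x : X => show ∃ (D : X.Opens) (N : ℕ) (_ : 0 < N)
      (t : Γ(CohB1.tensorPow L N, ⊤)) (_ : x ∈ D) (_ : genOpen (isInvertible_tensorPow hA.1 N) t = D)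
      (_ : IsAffineOpen D) (ℓ : Γ(L, D)), IsBasis L ℓ by
    obtain ⟨U, hxU, ℓ, hℓ⟩ := exists_isBasis hA.1 x
    obtain ⟨N, hN, t, hxt, hle, haff⟩ := exists_locus_le hA hxU
    exact ⟨_, N, hN, t, hxt, rfl, haff, _, isBasis_res hℓ hle⟩
  obtain ⟨S, hS⟩ := isCompact_univ.elim_finite_subcover (fun x => (D x : Set X)) (fun x => (D x).2)
    (fun x _ => Set.mem_iUnion.mpr ⟨x, hxD x⟩)
  choose G hG using fun x => (QCohLib.finite_sections F hF.2 (hDaff x)).fg_top
  choose E hE using fun x v => exists_extend_twist F hA.1 (hN x) (t x) (D x) (hD x) (hℓ x) v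
  let n := max m₀ (S.sup fun x => (G x).sup (E x))
  have hP := isInvertible_tensorPow hL n
  obtain ⟨i⟩ := NegVanish.nonempty_iso_of_inverse hP
    (NegVanish.isInvertible_of_inverse hP (NegVanish.isInverseOf_dual hP))
    (NegVanish.isInvertible_of_inverse hP (NegVanish.isInverseOf_pow hL hLM n))
    (NegVanish.isInverseOf_pow hL hLM n) (NegVanish.isInverseOf_dual hP)
  let κ := Σ x : S, {v // v ∈ G x.1}
  have key : ∀ j : κ, ∃ (φ : CohB1.tensorPow M n ⟶ F) (q : Γ(CohB1.tensorPow M n, D j.1.1)) (a : Γ(X, D j.1.1)),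
      IsUnit a ∧ φ.app _ q = a • j.2.1 := by
    rintro ⟨⟨x, hx⟩, ⟨v, hv⟩⟩
    have hn : E x v ≤ n := le_trans (le_trans (Finset.le_sup (f := E x) hv)
      (Finset.le_sup (f := fun x => (G x).sup (E x)) hx)) (le_max_right _ _)
    obtain ⟨w, a, ha, hw⟩ := hE x v n hn
    obtain ⟨φ, θ, hφ⟩ := exists_hom_dual hP w (isBasis_pw (hℓ x) n) (a • v) hw
    refine ⟨i.hom ≫ φ, i.inv.app _ θ, a, ha, ?_⟩
    change φ.app _ ((i.inv ≫ i.hom).app _ θ) = _
    rw [i.inv_hom_id]
    exact hφ
  choose φ q a ha hφ using key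
  let en := Finite.equivFin κ
  let B : Fin (Nat.card κ) → X.Modules := fun _ => CohB1.tensorPow M n
  let π : (⨁ B) ⟶ F := biproduct.desc fun j => φ (en.symm j)
  refine ⟨n, Nat.card κ, π, le_max_left _ _, ⟨fun {T} f g hfg => ?_⟩⟩
  have hc : ∀ (x : X), x ∈ S → ∀ v ∈ G x, f.app (D x) v = g.app (D x) v := by
    intro x hx v hv
    let j : κ := ⟨⟨x, hx⟩, ⟨v, hv⟩⟩
    have e := congrArg (fun ψ => biproduct.ι B (en j) ≫ ψ) hfg
    dsimp only [π] at e
    rw [biproduct.ι_desc_assoc, biproduct.ι_desc_assoc, en.symm_apply_apply] at e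
    have e' := congrArg (fun ψ => ψ.app (D x) (q j)) e
    change f.app _ ((φ j).app _ (q j)) = g.app _ ((φ j).app _ (q j)) at e'
    rw [hφ, Scheme.Modules.Hom.app_smul, Scheme.Modules.Hom.app_smul] at e'
    exact (ha j).smul_left_cancel.mp e'
  refine Scheme.Modules.hom_ext _ _ fun U => ?_
  ext s
  refine QCohLib.section_ext _ _ fun y hy => ?_
  obtain ⟨x, hxS, hyx⟩ := Set.mem_iUnion₂.mp (hS (Set.mem_univ y))
  obtain ⟨b, hbU, hyb⟩ := (hDaff x).exists_basicOpen_le (⟨y, hy⟩ : U) hyx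
  have hbD : X.basicOpen b ≤ D x := X.basicOpen_le b
  suffices e : ∀ (d : Γ(F, X.basicOpen b)), f.app _ d = g.app _ d by
    rw [← TopCat.Presheaf.germ_res_apply T.presheaf (homOfLE hbU) y hyb (f.app U s),
      ← TopCat.Presheaf.germ_res_apply T.presheaf (homOfLE hbU) y hyb (g.app U s)]
    exact congrArg _ ((QCohLib.app_map f hbU s).symm.trans ((e _).trans (QCohLib.app_map g hbU s)))
  intro d
  obtain ⟨k, z, hz⟩ := QCohLib.exists_res_eq_pow_smul (hDaff x) b (X.basicOpen b) hbD rfl d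
  have hu : IsUnit (resR hbD b ^ k : Γ(X, X.basicOpen b)) := (X.toRingedSpace.isUnit_res_basicOpen b).pow k
  refine hu.smul_left_cancel.mp ?_
  rw [← Scheme.Modules.Hom.app_smul, ← Scheme.Modules.Hom.app_smul]
  erw [← hz]
  rw [QCohLib.app_map f hbD z, QCohLib.app_map g hbD z]
  refine congrArg _ ?_
  have hzmem : z ∈ Submodule.span Γ(X, D x) (G x : Set Γ(F, D x)) := by
    rw [hG x]; trivial
  clear hz
  induction hzmem using Submodule.span_induction with
  | mem v hv => exact hc x hxS v hv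
  | zero => rw [map_zero, map_zero]
  | add u v _ _ hu hv => rw [map_add, map_add, hu, hv]
  | smul c u _ hu => rw [Scheme.Modules.Hom.app_smul, Scheme.Modules.Hom.app_smul, hu]

theorem subsingleton_HH_of_negPow [IsLocallyNoetherian X] (hA : CohB1.IsAmple L) (hM : ClSub.IsInverseOf M L) (r : ℕ)
    {m₀ : ℕ} (hneg : ∀ m : ℕ, m₀ ≤ m → ∀ i : ℕ, r < i → Subsingleton (Coh.HH X (CohB1.tensorPow M m) i))
    {F : X.Modules} (hF : Coh.IsCoh F) {i : ℕ} (hi : r < i) : Subsingleton (Coh.HH X F i) := by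
  have := hA.2.1
  have := isSeparated_of_isAmple hA
  have hMi : PicF.IsInvertible M := by
    obtain ⟨e⟩ := hM
    obtain ⟨c⟩ := ProjTwist.nonempty_tensorMod_comm L M
    exact NegVanish.isInvertible_of_inverse hA.1 ⟨c ≪≫ e⟩
  obtain ⟨d, hd⟩ := CohVanish.exists_bound_of_isCompact (⊤ : X.Opens) isCompact_univ
  suffices key : ∀ (j : ℕ) {F : X.Modules}, Coh.IsCoh F → ∀ i, r < i → d ≤ i + j → Subsingleton (Coh.HH X F i) from
    key d hF i hi (by omega)
  intro j
  induction j with
  | zero =>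
    intro F hF i _ hdi
    have := hF.1
    have := hd F i (by omega)
    exact (CohVanish.hEquiv (X := CohVanish.sp X) (Coh.toAb F) i).injective.subsingleton
  | succ j ih =>
    intro F hF i hi hdi
    obtain ⟨n, c, π, hn, hπ⟩ := exists_epi_negPow hA hM hF m₀
    have hPc : Coh.IsCoh (⨁ fun _ : Fin c => CohB1.tensorPow M n) :=
      CohFinite.isCoh_biproduct (DCohPerf.isCoh_finLocFree (isFinLocFree_of_isInvertible (isInvertible_tensorPow hMi n))) c
    haveI : HasExt.{u} X.Modules := ModGroth.sheaf_hasExt _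
    exact CohVanish.subsingleton_HH_of_shortExact₃ (CohVanish.shortExact_of_epi π) i
      (CohDual.subsingleton_HH_biproduct _ i fun _ => hneg n hn i hi)
      (ih (QCohLib.isCoh_kernel π hPc hF.1) (i + 1) (by omega) (by omega))

end Groth.Agent.CohDim
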